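import Mathlib

set_option autoImplicit false

namespace Cfsg.Agent.AltS

open Equiv

section
variable {α : Type*} [Fintype α] [DecidableEq α]

theorem jj_mem {m : ℕ} (ι : Fin m ↪ α) (x : alternatingGroup (Fin m)) :
    Perm.viaEmbeddingHom ι x.1 ∈ alternatingGroup α := by
  rw [Perm.mem_alternatingGroup]
  have := x.2
  rw [Perm.mem_alternatingGroup] at this
  rw [Perm.viaEmbeddingHom_apply, Perm.viaEmbedding, Perm.sign_extendDomain]
  exact this

/-- the embedding of alternating groups attached to an embedding of sets. -/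
noncomputable def jj {m : ℕ} (ι : Fin m ↪ α) : alternatingGroup (Fin m) →* alternatingGroup α :=
  ((Perm.viaEmbeddingHom ι).comp (alternatingGroup (Fin m)).subtype).codRestrict _ (jj_mem ι)

theorem jj_apply {m : ℕ} (ι : Fin m ↪ α) (x : alternatingGroup (Fin m)) (i : Fin m) :
    (jj ι x).1 (ι i) = ι (x.1 i) := Perm.viaEmbedding_apply x.1 ι i

theorem jj_apply_of_notMem {m : ℕ} (ι : Fin m ↪ α) (x : alternatingGroup (Fin m)) (a : α)
    (ha : a ∉ Set.range ι) : (jj ι x).1 a = a := Perm.viaEmbedding_apply_of_notMem x.1 ι a ha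

theorem jj_injective {m : ℕ} (ι : Fin m ↪ α) : Function.Injective (jj ι) := by
  intro x y h
  apply Subtype.ext
  apply Perm.viaEmbeddingHom_injective ι
  exact congrArg Subtype.val h

end

theorem ext_alt {m : ℕ} {a b : alternatingGroup (Fin m)} (h : ∀ i, a.1 i = b.1 i) : a = b :=
  Subtype.ext (Equiv.ext h)

/-- xor 1 -/
def e8 : alternatingGroup (Fin 8) :=
  ⟨(swap 0 1) * (swap 2 3) * (swap 4 5) * (swap 6 7), Perm.mem_alternatingGroup.mpr (by decide)⟩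
/-- 1→2→4→3→6→7→5→1 -/
def c8 : alternatingGroup (Fin 8) :=
  ⟨(swap 1 2) * (swap 2 4) * (swap 4 3) * (swap 3 6) * (swap 6 7) * (swap 7 5),
    Perm.mem_alternatingGroup.mpr (by decide)⟩

theorem e8_sq : e8 * e8 = 1 := ext_alt (by decide +kernel)
theorem e8_ne : e8 ≠ 1 := fun h => absurd (congrArg (fun x => x.1 0) h) (by decide)
theorem e8_c1 : e8 * (c8 * e8 * c8⁻¹) = (c8 * e8 * c8⁻¹) * e8 := ext_alt (by decide +kernel)
theorem e8_c2 : e8 * (c8 * (c8 * e8 * c8⁻¹) * c8⁻¹) = (c8 * (c8 * e8 * c8⁻¹) * c8⁻¹) * e8 :=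
  ext_alt (by decide +kernel)
theorem e8_c3 : c8 * (c8 * (c8 * e8 * c8⁻¹) * c8⁻¹) * c8⁻¹ = e8 * (c8 * e8 * c8⁻¹) :=
  ext_alt (by decide +kernel)

/-- points of the affine plane over `F_3`, `(x, y) ↦ x + 3 y`; translation by `(1,0)` is the
product of `x9`, its conjugates under `b9`. -/
def x9 : alternatingGroup (Fin 9) :=
  ⟨(swap 0 1) * (swap 1 2), Perm.mem_alternatingGroup.mpr (by decide)⟩
def a9 : alternatingGroup (Fin 9) :=
  ⟨(swap 0 1) * (swap 1 2) * (swap 3 4) * (swap 4 5) * (swap 6 7) * (swap 7 8),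
    Perm.mem_alternatingGroup.mpr (by decide)⟩
def b9 : alternatingGroup (Fin 9) :=
  ⟨(swap 0 3) * (swap 3 6) * (swap 1 4) * (swap 4 7) * (swap 2 5) * (swap 5 8),
    Perm.mem_alternatingGroup.mpr (by decide)⟩
/-- `(x,y) ↦ (-y, x)`: 1→3→2→6→1, 4→5→8→7→4 -/
def g9 : alternatingGroup (Fin 9) :=
  ⟨(swap 1 3) * (swap 3 2) * (swap 2 6) * (swap 4 5) * (swap 5 8) * (swap 8 7),
    Perm.mem_alternatingGroup.mpr (by decide)⟩
/-- `(x,y) ↦ (x+y, x-y)`: (1,0)→(1,1)→(2,0)→(2,2)→(1,0); (0,1)→(1,2)→(0,2)→(2,1)→(0,1) -/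
def h9 : alternatingGroup (Fin 9) :=
  ⟨(swap 1 4) * (swap 4 2) * (swap 2 8) * (swap 3 7) * (swap 7 6) * (swap 6 5),
    Perm.mem_alternatingGroup.mpr (by decide)⟩
/-- inverts `x9`, fixes its first conjugate. -/
def s9 : alternatingGroup (Fin 9) :=
  ⟨(swap 0 1) * (swap 6 7), Perm.mem_alternatingGroup.mpr (by decide)⟩

theorem x9_cube : x9 ^ 3 = 1 := ext_alt (by decide +kernel)
theorem b9_cube : b9 * b9 * b9 = 1 := ext_alt (by decide +kernel)
theorem a9_cube : a9 ^ 3 = 1 := ext_alt (by decide +kernel)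
theorem a9_ne : a9 ≠ 1 := fun h => absurd (congrArg (fun x => x.1 0) h) (by decide)
theorem x9_a9 : x9 * (b9 * x9 * b9⁻¹) * (b9 * (b9 * x9 * b9⁻¹) * b9⁻¹) = a9 :=
  ext_alt (by decide +kernel)
theorem x9_comm : x9 * (b9 * x9 * b9⁻¹) = (b9 * x9 * b9⁻¹) * x9 := ext_alt (by decide +kernel)
theorem s9_x9 : s9 * x9 * s9⁻¹ = x9⁻¹ := ext_alt (by decide +kernel)
theorem s9_x9' : s9 * (b9 * x9 * b9⁻¹) * s9⁻¹ = b9 * x9 * b9⁻¹ := ext_alt (by decide +kernel)
theorem g9_a9 : g9 * a9 * g9⁻¹ = b9 := ext_alt (by decide +kernel)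
theorem g9_b9 : g9 * b9 * g9⁻¹ = a9⁻¹ := ext_alt (by decide +kernel)
theorem gg9_a9 : (g9 * g9) * a9 * (g9 * g9)⁻¹ = a9⁻¹ := ext_alt (by decide +kernel)
theorem h9_a9 : h9 * a9 * h9⁻¹ = a9 * b9 := ext_alt (by decide +kernel)
theorem h9_b9 : h9 * b9 * h9⁻¹ = a9 * b9 ^ 2 := ext_alt (by decide +kernel)
theorem gh9 : h9 * (g9 * g9) = (g9 * g9) * h9 := ext_alt (by decide +kernel)
theorem gg9 : g9 * (g9 * g9) = (g9 * g9) * g9 := (mul_assoc _ _ _).symm

/-- 5-cycle 0→1→2→3→4 -/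
def x10 : alternatingGroup (Fin 10) :=
  ⟨(swap 0 1) * (swap 1 2) * (swap 2 3) * (swap 3 4), Perm.mem_alternatingGroup.mpr (by decide)⟩
def y10 : alternatingGroup (Fin 10) :=
  ⟨(swap 5 6) * (swap 6 7) * (swap 7 8) * (swap 8 9), Perm.mem_alternatingGroup.mpr (by decide)⟩
/-- i→2i on both: 1→2→4→3→1, 6→7→9→8→6 -/
def h10 : alternatingGroup (Fin 10) :=
  ⟨(swap 1 2) * (swap 2 4) * (swap 4 3) * ((swap 6 7) * (swap 7 9) * (swap 9 8)),
    Perm.mem_alternatingGroup.mpr (by decide)⟩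
/-- inverts x10 -/
def s10 : alternatingGroup (Fin 10) :=
  ⟨(swap 1 4) * (swap 2 3), Perm.mem_alternatingGroup.mpr (by decide)⟩
def s10' : alternatingGroup (Fin 10) :=
  ⟨(swap 6 9) * (swap 7 8), Perm.mem_alternatingGroup.mpr (by decide)⟩
/-- x_i → y_{2i}, y_i → x_i -/
def k10 : alternatingGroup (Fin 10) :=
  ⟨(swap 0 5) * (swap 1 6) * (swap 2 7) * (swap 3 8) * (swap 4 9) *
      ((swap 1 2) * (swap 2 4) * (swap 4 3)), Perm.mem_alternatingGroup.mpr (by decide)⟩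
/-- y → y², and the swap (1 4) -/
def m10 : alternatingGroup (Fin 10) :=
  ⟨(swap 1 4) * ((swap 6 7) * (swap 7 9) * (swap 9 8)), Perm.mem_alternatingGroup.mpr (by decide)⟩

theorem x10_pow : x10 ^ 5 = 1 := ext_alt (by decide +kernel)
theorem y10_pow : y10 ^ 5 = 1 := ext_alt (by decide +kernel)
theorem y10_ne : y10 ≠ 1 := fun h => absurd (congrArg (fun x => x.1 5) h) (by decide)
theorem xy10 : x10 * y10 = y10 * x10 := ext_alt (by decide +kernel)
theorem s10_x : s10 * x10 * s10⁻¹ = x10⁻¹ := ext_alt (by decide +kernel)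
theorem s10_x4 : s10 * x10 * s10⁻¹ = x10 ^ 4 := ext_alt (by decide +kernel)
theorem s10_y : s10 * y10 * s10⁻¹ = y10 := ext_alt (by decide +kernel)
theorem t10_x : (s10 * s10') * x10 * (s10 * s10')⁻¹ = x10⁻¹ := ext_alt (by decide +kernel)
theorem t10_y : (s10 * s10') * y10 * (s10 * s10')⁻¹ = y10⁻¹ := ext_alt (by decide +kernel)
theorem h10_x : h10 * x10 * h10⁻¹ = x10 ^ 2 := ext_alt (by decide +kernel)
theorem h10_y : h10 * y10 * h10⁻¹ = y10 ^ 2 := ext_alt (by decide +kernel)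
theorem k10_x : k10 * x10 * k10⁻¹ = y10 ^ 2 := ext_alt (by decide +kernel)
theorem k10_y : k10 * y10 * k10⁻¹ = x10 := ext_alt (by decide +kernel)
theorem m10_y : m10 * y10 * m10⁻¹ = y10 ^ 2 := ext_alt (by decide +kernel)
theorem s10_t : s10 * (s10 * s10') = (s10 * s10') * s10 := ext_alt (by decide +kernel)
theorem h10_t : h10 * (s10 * s10') = (s10 * s10') * h10 := ext_alt (by decide +kernel)
theorem k10_t : k10 * (s10 * s10') = (s10 * s10') * k10 := ext_alt (by decide +kernel)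
theorem m10_t : m10 * (s10 * s10') = (s10 * s10') * m10 := ext_alt (by decide +kernel)
theorem y10_fix : ∀ i : Fin 10, i = 0 ∨ i = 2 ∨ i = 3 → y10.1 i = i := by decide +kernel
theorem m10_fix : ∀ i : Fin 10, i = 0 ∨ i = 2 ∨ i = 3 → m10.1 i = i := by decide +kernel

end Cfsg.Agent.AltS
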